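import Groth.Agent.SpQS.FiniteFieldPt
import Groth.Agent.AlgSpLib.GpdBasic

/-!
Sections over the spectrum of a field into decent algebraic spaces, and groupoids over a field.
-/

universe u

open CategoryTheory CategoryTheory.Limits AlgebraicGeometry Opposite IsLocalRing

set_option backward.isDefEq.respectTransparency false

namespace Groth.Agent.GpdField

open _root_.AlgSp Groth.Agent.AlgSpLib

variable {S : Scheme.{u}}

/-- a section of a morphism to the spectrum of a field out of a decent space is a closed immersion -/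
theorem repWith_closedImmersion_of_section {X : Sp S} (hX : IsAlgSpace X) (hd : IsDecent X) {k : Type u} [Field k]
    {str : Spec (CommRingCat.of k) ⟶ S} (p : (yon S).obj (Over.mk str) ⟶ X)
    (q : X ⟶ (yon S).obj (Over.mk str)) (hpq : p ≫ q = 𝟙 _) : RepWith @IsClosedImmersion p := by
  have hrep : Representable p := fun {T} ξ => by
    obtain ⟨V, v₁, v₂, sqV⟩ := exists_pullback hX.diag p ξ
    exact ⟨V, v₂, (yon S).map v₁, sqV⟩
  have : Mono p := (SplitMono.mk q hpq).mono
  obtain ⟨U, π, ι, O, hπ, hπs, hO, -, hcov⟩ := exists_affine_chart_family hX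
  obtain ⟨P, pP, qP, sqP⟩ := exists_pullback hX.diag p π
  have := isLocallySurjective_of_atlas hπ hπs
  have hfin : IsFinite qP.left := by
    refine IsZariskiLocalAtTarget.of_iSup_eq_top O (eq_top_iff.2 fun z _ => TopologicalSpace.Opens.mem_iSup.2 (hcov z))
      fun i => ?_
    let Z : Over S := Over.mk ((O i).ι ≫ U.hom)
    let inc : Z ⟶ U := Over.homMk (O i).ι rfl
    have : IsAffine Z.left := (hO i : IsAffine (O i).toScheme)
    let Pi : Over S := Over.mk ((qP.left ⁻¹ᵁ O i).ι ≫ P.hom)
    let iP : Pi ⟶ P := Over.homMk (qP.left ⁻¹ᵁ O i).ι rfl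
    let qi : Pi ⟶ Z := Over.homMk (qP.left ∣_ O i) (by
      show (qP.left ∣_ O i) ≫ (O i).ι ≫ U.hom = (qP.left ⁻¹ᵁ O i).ι ≫ P.hom
      rw [morphismRestrict_ι_assoc, Over.w qP])
    have hZe : RepWith @Etale ((yon S).map inc ≫ π) :=
      repWith_comp ((repWith_yon_iff inc).2 (show Etale (O i).ι from inferInstance)) hπ
    have sqI : IsPullback ((yon S).map qi) ((yon S).map (iP ≫ pP)) ((yon S).map inc ≫ π) p := by
      rw [Functor.map_comp]
      exact (isPullback_yon_iff.2 (isPullback_morphismRestrict qP.left (O i))).paste_vert sqP.flip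
    let c' : Pi.left ⟶ Spec (CommRingCat.of k) := (iP ≫ pP).left
    have : Etale c' := (repWith_yon_iff (iP ≫ pP)).1 (repWith_baseChange sqI hZe)
    have : CompactSpace Pi.left := ValLib.compactSpace_fibre hX hd p sqI
    have : LocallyQuasiFinite c' := UnivInjMor.lqf_of_unramified c'
    have : QuasiCompact c' := HasAffineProperty.iff_of_isAffine.mpr ‹CompactSpace Pi.left›
    have : IsFinite c' := IsFinite.of_locallyQuasiFinite c'
    obtain ⟨κ, hκ⟩ := (yon S).map_surjective (((yon S).map inc ≫ π) ≫ q)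
    have e : qi ≫ κ = iP ≫ pP := (yon S).map_injective (by
      rw [Functor.map_comp, hκ, ← Category.assoc, sqI.w, Category.assoc, hpq, Category.comp_id])
    have : IsFinite (qi.left ≫ κ.left) := by
      rw [show qi.left ≫ κ.left = c' from congrArg (fun z : Pi ⟶ Over.mk str => z.left) e]
      infer_instance
    have : IsSeparated κ.left := inferInstance
    exact MorphismProperty.of_postcomp (W := @IsFinite) (W' := @IsSeparated) qi.left κ.left ‹_› ‹_›
  have hfp : RepWith @IsFinite p := repWith_of_isLocallySurjective (P := @IsFinite) hrep sqP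
    ((repWith_yon_iff qP).2 hfin)
  refine ⟨hrep, fun A B ξ fst snd sq => ?_⟩
  have : Mono ((yon S).map snd) := sq.mono_snd_of_mono
  have : Mono snd := (yon S).mono_of_mono_map ‹_›
  exact (IsClosedImmersion.iff_isFinite_and_mono snd.left).2 ⟨hfp.2 ξ fst snd sq, Over.mono_left_of_mono snd⟩

open Gpd in
/-- the diagonal of the source map is a base change of the identity section -/
theorem exists_isPullback_diagonal_e {B : Sp S} (G : GroupoidSp B) {U' : Sp S} (j : G.U ⟶ U') [Mono j] :
    ∃ m, IsPullback G.t (pullback.diagonal (G.s ≫ j)) G.e m := by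
  let a := pullback.fst (G.s ≫ j) (G.s ≫ j)
  let b := pullback.snd (G.s ≫ j) (G.s ≫ j)
  have hab : a ≫ G.s = b ≫ G.s := (cancel_mono j).1 (by rw [Category.assoc, Category.assoc]; exact pullback.condition)
  have h : a ≫ G.s = (b ≫ G.i) ≫ G.t := by rw [Category.assoc, G.i_t]; exact hab
  have nat : ∀ {T : Sp S} (γ : T ⟶ pullback (G.s ≫ j) (G.s ≫ j)) (h' : (γ ≫ a) ≫ G.s = ((γ ≫ b) ≫ G.i) ≫ G.t),
      γ ≫ mul G a (b ≫ G.i) h = mul G (γ ≫ a) ((γ ≫ b) ≫ G.i) h' := by
    intro T γ h'
    show γ ≫ pullback.lift a (b ≫ G.i) h ≫ G.c = pullback.lift (γ ≫ a) ((γ ≫ b) ≫ G.i) h' ≫ G.c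
    rw [← Category.assoc]
    congr 1
    apply pullback.hom_ext
    · rw [Category.assoc, pullback.lift_fst, pullback.lift_fst]
    · rw [Category.assoc, pullback.lift_snd, pullback.lift_snd, Category.assoc]
  have hd : ∀ {T : Sp S} (γ : T ⟶ pullback (G.s ≫ j) (G.s ≫ j)),
      (γ ≫ a) ≫ G.s = ((γ ≫ b) ≫ G.i) ≫ G.t := fun γ => by
    simp only [Category.assoc, G.i_t]; rw [hab]
  have hda : pullback.diagonal (G.s ≫ j) ≫ a = 𝟙 _ := pullback.diagonal_fst _
  have hdb : pullback.diagonal (G.s ≫ j) ≫ b = 𝟙 _ := pullback.diagonal_snd _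
  have w : G.t ≫ G.e = pullback.diagonal (G.s ≫ j) ≫ mul G a (b ≫ G.i) h := by
    rw [nat _ (hd _), mul_congr G (hd _) hda (show (pullback.diagonal (G.s ≫ j) ≫ b) ≫ G.i = G.i by
      rw [hdb, Category.id_comp])]
    exact (Category.id_comp _).symm.trans ((G.comp_i (𝟙 G.R)).symm.trans (mul_congr G _ rfl (Category.id_comp G.i)))
  have key : ∀ c : PullbackCone G.e (mul G a (b ≫ G.i) h),
      c.snd ≫ a = c.snd ≫ b ∧ c.fst = (c.snd ≫ a) ≫ G.t := by
    intro c
    have h0 : c.fst ≫ G.e = mul G (c.snd ≫ a) ((c.snd ≫ b) ≫ G.i) (hd _) := c.condition.trans (nat c.snd (hd _))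
    have ht : c.fst = (c.snd ≫ a) ≫ G.t := by
      have := congrArg (· ≫ G.t) h0
      simp only [Category.assoc, G.e_t, Category.comp_id, mul_t] at this
      rw [Category.assoc]; exact this
    have hs' : c.fst = (c.snd ≫ b) ≫ G.t := by
      have := congrArg (· ≫ G.s) h0
      simp only [Category.assoc, G.e_s, Category.comp_id, mul_s, G.i_s] at this
      rw [Category.assoc]; exact this
    refine ⟨?_, ht⟩
    have h1 := mul_inv_cancel G (c.snd ≫ a) (c.snd ≫ b) (hd _) (by
      rw [mul_s, Category.assoc, G.i_s])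
    rw [mul_congr G _ (show mul G (c.snd ≫ a) ((c.snd ≫ b) ≫ G.i) (hd _) = (c.snd ≫ b) ≫ G.t ≫ G.e by
      rw [← h0, hs', Category.assoc]) rfl] at h1
    exact h1.symm.trans (G.e_comp (c.snd ≫ b))
  refine ⟨mul G a (b ≫ G.i) h, ⟨w⟩, ⟨PullbackCone.IsLimit.mk w (fun c => c.snd ≫ a)
    (fun c => (key c).2.symm) (fun c => ?_) (fun c m' _ h2 => ?_)⟩⟩
  · apply pullback.hom_ext
    · rw [Category.assoc, pullback.diagonal_fst, Category.comp_id]
    · rw [Category.assoc, pullback.diagonal_snd, Category.comp_id]; exact (key c).1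
  · rw [← h2, Category.assoc, hda, Category.comp_id]

end Groth.Agent.GpdField
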